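import Groth.Agent.H5.Kosz.Unit
import Groth.Agent.H35.KoszulPerfect

/-!
# Amplitude bounds for the Koszul object

`Hom(K(fs), N) = 0` in `D(A)` when `N ∈ D^{≤ m}` with `m < -r`; the same on `Spec A` against
`D_QCoh`; `K~ ∈ D^{≤ 0}`.
-/

set_option autoImplicit false
set_option linter.style.haveILetI false

universe u

open CategoryTheory Category Limits Pretriangulated DerivedCategory AlgebraicGeometry

attribute [local instance] HasDerivedCategory.standard

namespace Groth.Agent.H5.Kosz.Bound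

open Groth.Agent.H5.Kosz.Ring Groth.Agent.H5.Kosz.Bridge Groth.Agent.H5.Kosz.Shift
  Groth.Agent.H5.Kosz.Unit

section ring

variable {A : Type u} [CommRing A]

/-- no maps from the Koszul complex on `r` elements to `D^{≤ m}`, `m < -r` -/
theorem hom_koszul_eq_zero_of_isLE :
    ∀ (fs : List A) (N : DerivedCategory (ModuleCat.{u} A)) (m : ℤ), N.IsLE m →
      m < -(fs.length : ℤ) → ∀ φ : Q.obj (Koszul.koszul A fs) ⟶ N, φ = 0
  | [], N, m, hN, hm, φ => by
    haveI := hN
    have hN' : N.IsLE (-1) := TStructure.t.isLE_of_le N m (-1) (by simp at hm; omega)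
    have h := Groth.Agent.H5.DQ.RingSide.eq_zero_of_projective (ModuleCat.of A A) N hN'
      (koszulNilIso.inv ≫ φ)
    exact (cancel_epi koszulNilIso.inv).1 (h.trans comp_zero.symm)
  | g :: l, N, m, hN, hm, φ => by
    haveI := hN
    obtain ⟨b, c, hT⟩ := exists_koszul_triangle g l
    have hm' : m < -(l.length : ℤ) := by
      simp only [List.length_cons, Nat.cast_add, Nat.cast_one] at hm
      omega
    have h1 : (Triangle.mk (g • 𝟙 (Q.obj (Koszul.koszul A l))) b c).mor₂ ≫ φ = 0 :=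
      hom_koszul_eq_zero_of_isLE l N m hN hm' _
    obtain ⟨φ', hφ'⟩ := Triangle.yoneda_exact₃ _ hT φ h1
    have hN1 : (N⟦(-1 : ℤ)⟧).IsLE (m + 1) := TStructure.t.isLE_shift N m (-1) (m + 1) (by omega)
    have h2 : ∀ ψ : Q.obj (Koszul.koszul A l) ⟶ N⟦(-1 : ℤ)⟧, ψ = 0 := fun ψ =>
      hom_koszul_eq_zero_of_isLE l _ (m + 1) hN1 (by
        simp only [List.length_cons, Nat.cast_add, Nat.cast_one] at hm
        omega) ψ
    have h3 : φ' = 0 := orth_one _ _ h2 φ'
    rw [hφ', h3]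
    exact comp_zero

end ring

variable (R : CommRingCat.{u}) [PreservesFiniteLimits (tilde.functor R)]

lemma isLE_tildeD (M : DerivedCategory (ModuleCat.{u} R)) (n : ℤ) (hM : M.IsLE n) :
    ((DCoh.tildeD R).obj M).IsLE n := by
  haveI := hM
  rw [isLE_iff]
  intro i hi
  exact IsZero.of_iso ((tilde.functor R).map_isZero (isZero_of_isLE M n i hi))
    (HDTildeIso R M i)

lemma isLE_of_tildeD (M : DerivedCategory (ModuleCat.{u} R)) (n : ℤ)
    (hM : ((DCoh.tildeD R).obj M).IsLE n) : M.IsLE n := by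
  haveI := hM
  rw [isLE_iff]
  intro i hi
  have h1 : IsZero (tilde ((homologyFunctor (ModuleCat.{u} R) i).obj M)) :=
    IsZero.of_iso (isZero_of_isLE ((DCoh.tildeD R).obj M) n i hi) (HDTildeIso R M i).symm
  rw [IsZero.iff_id_eq_zero] at h1 ⊢
  apply (tilde.functor R).map_injective
  rw [Functor.map_zero, CategoryTheory.Functor.map_id]
  exact h1

lemma isLE_Kt (fs : List R) : (Kt R fs).IsLE 0 := by
  apply isLE_tildeD
  haveI : (Koszul.koszul R fs).IsStrictlyLE 0 := by
    rw [CochainComplex.isStrictlyLE_iff]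
    exact fun i hi => Groth.Agent.H35.KoszulPerf.koszul_vanishesOutside fs i (Or.inr hi)
  infer_instance

/-- no maps from `K~[-n]` to an object of `D_QCoh ∩ D^{≤ b}` when `b + r < n` -/
theorem hom_Kt_shift_eq_zero (fs : List R) (L : DCoh.D (Spec (CommRingCat.of R)))
    (hL : DCoh.IsQCohD L) (b n : ℤ) (hb : L.IsLE b) (hn : b + (fs.length : ℤ) < n)
    (φ : (Kt R fs)⟦-n⟧ ⟶ L) : φ = 0 := by
  obtain ⟨hfull, hfaith, hess⟩ := Groth.Agent.H5.DQ.Main.main R
  obtain ⟨N, ⟨e⟩⟩ := (hess L).1 hL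
  haveI := hb
  have hN : N.IsLE b := isLE_of_tildeD R N b (TStructure.t.isLE_of_iso e.symm b)
  haveI := hN
  have hNn : (N⟦n⟧).IsLE (b - n) := TStructure.t.isLE_shift N b n (b - n) (by omega)
  refine orth_to_neg _ _ n (fun ψ => ?_) φ
  let i : L⟦n⟧ ≅ (DCoh.tildeD R).obj (N⟦n⟧) :=
    (shiftFunctor _ n).mapIso e.symm ≪≫ (((DCoh.tildeD R).commShiftIso n).app N).symm
  obtain ⟨χ, hχ⟩ := (DCoh.tildeD R).map_surjective (ψ ≫ i.hom)
  have h0 : χ = 0 := hom_koszul_eq_zero_of_isLE fs _ (b - n) hNn (by omega) χ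
  rw [h0, Functor.map_zero] at hχ
  exact (cancel_mono i.hom).1 (hχ.symm.trans zero_comp.symm)

end Groth.Agent.H5.Kosz.Bound
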