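import Groth.Agent.H5.Kosz.Ring
import Groth.Agent.H33.LocCoh.UnitIso
import Groth.Prelude.Def_Wider

/-!
# Bridge between the ring side and the scheme side for the Koszul complex

`U = Spec R ∖ V(I)`.  For `N ∈ D(R)`: `N~|_U = 0` iff the cohomology of `N` is `f`-power torsion for
the generators `f` of `I`.  Consequently the Koszul object restricts to zero on `U`, and is left
orthogonal to every `Rj_* M`.
-/

set_option autoImplicit false
set_option linter.style.haveILetI false

universe u

open CategoryTheory Category Limits Pretriangulated DerivedCategory AlgebraicGeometry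

attribute [local instance] HasDerivedCategory.standard

namespace Groth.Agent.H5.Kosz.Bridge

open Groth.Agent.H5.Kosz.Ring

variable (R : CommRingCat.{u})

set_option backward.isDefEq.respectTransparency.types false in
/-- an element of `M` whose germs vanish on `D(f)` is killed by a power of `f` -/
lemma exists_pow_smul_eq_zero_of_stalks (M : ModuleCat.{u} R) (f : R)
    (h : ∀ x : PrimeSpectrum.Top R, f ∉ x.asIdeal → Subsingleton ((tilde M).presheaf.stalk x))
    (m : M) : ∃ k : ℕ, f ^ k • m = 0 := by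
  by_contra hcon
  push Not at hcon
  have hdisj : Disjoint (Ideal.torsionOf R M m : Set R) (Submonoid.powers f : Set R) := by
    rw [Set.disjoint_left]
    rintro a ha ⟨k, rfl⟩
    exact hcon k ((Ideal.mem_torsionOf_iff _ _).1 ha)
  obtain ⟨p, hp, hle, hpd⟩ := Ideal.exists_le_prime_disjoint _ _ hdisj
  obtain ⟨x, rfl⟩ : ∃ x : PrimeSpectrum.Top R, x.asIdeal = p := ⟨⟨p, hp⟩, rfl⟩
  have hf : f ∉ x.asIdeal := fun hfp => Set.disjoint_left.1 hpd hfp ⟨1, pow_one f⟩
  haveI := h x hf
  have h0 : (tilde.toStalk M x).hom m = 0 := Subsingleton.elim _ _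
  obtain ⟨s, hs⟩ := (IsLocalizedModule.eq_zero_iff x.asIdeal.primeCompl
    (tilde.toStalk M x).hom).1 h0
  exact s.2 (hle ((Ideal.mem_torsionOf_iff _ _).2 hs))

set_option backward.isDefEq.respectTransparency.types false in
/-- if every element of `M` is killed by a power of `f ∉ x`, the stalk of `M~` at `x` vanishes -/
lemma subsingleton_stalk_of_tors (M : ModuleCat.{u} R) (f : R)
    (h : ∀ m : M, ∃ k : ℕ, f ^ k • m = 0) (x : PrimeSpectrum.Top R) (hx : f ∉ x.asIdeal) :
    Subsingleton ((tilde M).presheaf.stalk x) := by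
  refine ⟨fun y z => ?_⟩
  have key : ∀ y : (tilde M).presheaf.stalk x, y = 0 := by
    intro y
    obtain ⟨⟨m, s⟩, hms⟩ := IsLocalizedModule.surj x.asIdeal.primeCompl (tilde.toStalk M x).hom y
    obtain ⟨k, hk⟩ := h m
    have hfk : f ^ k ∈ x.asIdeal.primeCompl := fun hmem => hx (x.2.mem_of_pow_mem k hmem)
    have h1 : (tilde.toStalk M x).hom m = 0 :=
      (IsLocalizedModule.eq_zero_iff x.asIdeal.primeCompl (tilde.toStalk M x).hom).2
        ⟨⟨f ^ k, hfk⟩, hk⟩
    simp only at hms
    rw [h1] at hms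
    have h2 : s • y = s • (0 : (tilde M).presheaf.stalk x) := by rw [hms, smul_zero]
    exact IsLocalizedModule.smul_injective (tilde.toStalk M x).hom s h2
  rw [key y, key z]

variable [PreservesFiniteLimits (tilde.functor R)]

/-- `H^q(N~) ≅ (H^q N)~` -/
noncomputable def HDTildeIso (N : DerivedCategory (ModuleCat.{u} R)) (q : ℤ) :
    DCoh.HD ((DCoh.tildeD R).obj N) q ≅
      tilde ((homologyFunctor (ModuleCat.{u} R) q).obj N) :=
  (Groth.Agent.H16.ExactDer.homologyNatIso (tilde.functor R) q).app N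

/-- **Br1.** If `N~` restricts to zero on the complement of `V(I)`, the cohomology of `N` is
`f`-power torsion for every `f ∈ I`. -/
theorem tors_of_isZero_restrictD (I : Ideal R) (N : DerivedCategory (ModuleCat.{u} R))
    (h : IsZero ((DCoh.restrictD (LocCoh.puncturedOpen R I).ι).obj ((DCoh.tildeD R).obj N)))
    (f : R) (hf : f ∈ I) : Tors f N := by
  intro q m
  refine exists_pow_smul_eq_zero_of_stalks R _ f (fun x hx => ?_) m
  have hxU : x ∈ LocCoh.puncturedOpen R I := by
    change x ∈ (PrimeSpectrum.zeroLocus (I : Set R))ᶜ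
    intro hx'
    exact hx (hx' hf)
  have h1 := Groth.Agent.H33.LocCoh.subsingleton_stalk_HD_of_isZero_restrictD
    (LocCoh.puncturedOpen R I) ((DCoh.tildeD R).obj N) h q x hxU
  exact Groth.Agent.H33.LocCoh.subsingleton_stalk_of_iso (HDTildeIso R N q) x h1

/-- **Br2.** If the cohomology of `N` is `f`-power torsion for every `f` in a generating set of `I`,
then `N~` restricts to zero on the complement of `V(I)`. -/
theorem isZero_restrictD_of_tors (s : Set R) (N : DerivedCategory (ModuleCat.{u} R))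
    (hN : ∀ f ∈ s, Tors f N) :
    IsZero ((DCoh.restrictD (LocCoh.puncturedOpen R (Ideal.span s)).ι).obj
      ((DCoh.tildeD R).obj N)) := by
  refine Groth.Agent.H33.Supp.isZero_restrictD_of_stalks _ _ (fun q w => ?_)
  have hw : ((LocCoh.puncturedOpen R (Ideal.span s)).ι.base w) ∈
      LocCoh.puncturedOpen R (Ideal.span s) := by
    exact w.2
  set x : PrimeSpectrum.Top R := (LocCoh.puncturedOpen R (Ideal.span s)).ι.base w with hx
  have hx' : ¬ ((Ideal.span s : Ideal R) : Set R) ⊆ x.asIdeal := fun hle => hw hle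
  have : ∃ f ∈ s, f ∉ x.asIdeal := by
    by_contra hcon
    push Not at hcon
    exact hx' (Ideal.span_le.2 hcon)
  obtain ⟨f, hfs, hfx⟩ := this
  have h1 := subsingleton_stalk_of_tors R _ f (hN f hfs q) x hfx
  exact Groth.Agent.H33.LocCoh.subsingleton_stalk_of_iso (HDTildeIso R N q).symm x h1

/-- the Koszul object restricts to zero on the complement -/
theorem isZero_restrictD_koszul (fs : List R) :
    IsZero ((DCoh.restrictD (LocCoh.puncturedOpen R (Ideal.span {a | a ∈ fs})).ι).obj
      ((DCoh.tildeD R).obj (Q.obj (Koszul.koszul R fs)))) :=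
  isZero_restrictD_of_tors R {a | a ∈ fs} _ (fun f hf => tors_koszul fs f hf)

/-- **Br3.** The Koszul object is left orthogonal to the image of `Rj_*`. -/
theorem hom_koszul_Rpush_eq_zero (fs : List R)
    [DCoh.HasRpush (LocCoh.puncturedOpen R (Ideal.span {a | a ∈ fs})).ι]
    (adj : DCoh.restrictD (LocCoh.puncturedOpen R (Ideal.span {a | a ∈ fs})).ι ⊣
      DCoh.Rpush (LocCoh.puncturedOpen R (Ideal.span {a | a ∈ fs})).ι)
    (M : DCoh.D (LocCoh.puncturedOpen R (Ideal.span {a | a ∈ fs}) : Scheme.{u})) (n : ℤ)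
    (φ : ((DCoh.tildeD R).obj (Q.obj (Koszul.koszul R fs)))⟦n⟧ ⟶
      (DCoh.Rpush (LocCoh.puncturedOpen R (Ideal.span {a | a ∈ fs})).ι).obj M) : φ = 0 := by
  have hz : IsZero ((DCoh.restrictD (LocCoh.puncturedOpen R (Ideal.span {a | a ∈ fs})).ι).obj
      (((DCoh.tildeD R).obj (Q.obj (Koszul.koszul R fs)))⟦n⟧)) :=
    IsZero.of_iso ((shiftFunctor _ n).map_isZero (isZero_restrictD_koszul R fs))
      (((DCoh.restrictD (LocCoh.puncturedOpen R (Ideal.span {a | a ∈ fs})).ι).commShiftIso
        n).app _)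
  apply (adj.homEquiv _ _).symm.injective
  exact hz.eq_of_src _ _

end Groth.Agent.H5.Kosz.Bridge
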