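import Groth.Agent.H5.HomVan.Perfect

/-!
# `Hom(O_W, L) = 0` on a union of `r` basic opens of an affine scheme

`PWb K W a b` : for every open immersion `g` with range `W`, `HV (K|_g) a b`.  For `K = O_X`, `X`
affine, and `W` a union of `r ≥ 1` basic opens, `PWb O_X W (-(r-1)) 0`.
-/

set_option autoImplicit false
set_option linter.style.haveILetI false

universe u

open CategoryTheory Category Limits Pretriangulated DerivedCategory AlgebraicGeometry
  Scheme.Modules

attribute [local instance] HasDerivedCategory.standard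

namespace Groth.Agent.H5.Kosz.CoverVan

open Groth.Agent.H5.HomVan.Basic Groth.Agent.H5.HomVan.MV Groth.Agent.H5.HomVan.Induct

variable {X : Scheme.{u}}

/-- `HV` with fixed bounds for every open immersion with range `W` -/
def PWb (K : DCoh.D X) (W : X.Opens) (a b : ℤ) : Prop :=
  ∀ (T : Scheme.{u}) (g : T ⟶ X) [IsOpenImmersion g], g.opensRange = W →
    HV ((DCoh.restrictD g).obj K) a b

lemma PWb.mono {K : DCoh.D X} {W : X.Opens} {a b a' b' : ℤ} (h : PWb K W a b) (ha : a' ≤ a)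
    (hb : b ≤ b') : PWb K W a' b' :=
  fun T g _ hg => (h T g hg).mono ha hb

lemma PWb_bot (K : DCoh.D X) (a b : ℤ) : PWb K ⊥ a b := by
  intro T g _ hg
  haveI : IsEmpty T := ⟨fun x => by
    have h : g.base x ∈ g.opensRange := ⟨x, rfl⟩
    rw [hg] at h
    exact h⟩
  exact HV.of_isZero (isZero_of_isEmpty _) a b

lemma PWb_sup (K : DCoh.D X) (W₁ W₂ : X.Opens) (a b : ℤ) (h₁ : PWb K W₁ a b)
    (h₂ : PWb K W₂ a b) (h₃ : PWb K (W₁ ⊓ W₂) a b) : PWb K (W₁ ⊔ W₂) (a - 1) b := by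
  intro T g _ hg
  let U : T.Opens := g ⁻¹ᵁ W₁
  let V : T.Opens := g ⁻¹ᵁ W₂
  have hUV : U ⊔ V = ⊤ := by
    rw [eq_top_iff]
    intro x _
    have h : g.base x ∈ g.opensRange := ⟨x, rfl⟩
    rw [hg] at h
    exact h
  have e₁ := h₁ _ (U.ι ≫ g) (opensRange_ι_comp g W₁ (hg ▸ le_sup_left))
  have e₂ := h₂ _ (V.ι ≫ g) (opensRange_ι_comp g W₂ (hg ▸ le_sup_right))
  have e₃ := h₃ _ ((U ⊓ V).ι ≫ g)
    (opensRange_ι_comp g (W₁ ⊓ W₂) (hg ▸ inf_le_left.trans le_sup_left))
  have e₁' : HV ((DCoh.restrictD U.ι).obj ((DCoh.restrictD g).obj K)) a b :=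
    HV.of_iso ((Groth.Agent.H33.Glue.restrictDComp U.ι g).app K) e₁
  have e₂' : HV ((DCoh.restrictD V.ι).obj ((DCoh.restrictD g).obj K)) a b :=
    HV.of_iso ((Groth.Agent.H33.Glue.restrictDComp V.ι g).app K) e₂
  have e₃' : HV ((DCoh.restrictD (U ⊓ V).ι).obj ((DCoh.restrictD g).obj K)) a b :=
    HV.of_iso ((Groth.Agent.H33.Glue.restrictDComp (U ⊓ V).ι g).app K) e₃
  exact HV_of_cover U V hUV _ a b e₁' e₂' e₃'

/-- `O_X|_T ≅ O_T` in the derived category -/
noncomputable def restrictDUnitIso {T : Scheme.{u}} (g : T ⟶ X) [IsOpenImmersion g] :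
    (DCoh.restrictD g).obj (Groth.Agent.H5.DQ.SchemeSide.T₀ X) ≅
      Groth.Agent.H5.DQ.SchemeSide.T₀ T :=
  Groth.Agent.H16.ExactDer.singleIso (restrictFunctor g) (Coh.structureModule X) 0 ≪≫
    (singleFunctor T.Modules 0).mapIso ((restrictFunctorIsoPullback g).app _ ≪≫
      Groth.Agent.H5.PullbackUnit.pullbackUnitIso g)

lemma HV_unit_affine (T : Scheme.{u}) [IsAffine T] :
    HV (Groth.Agent.H5.DQ.SchemeSide.T₀ T) 0 0 := by
  intro L hL hz φ
  exact hom_single_unit_eq_zero 0 L hL (hz 0 le_rfl le_rfl) φ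

lemma PWb_unit_affine (W : X.Opens) (hW : IsAffineOpen W) :
    PWb (Groth.Agent.H5.DQ.SchemeSide.T₀ X) W 0 0 := by
  intro T g _ hg
  haveI : IsAffine T := by
    haveI : IsAffine ↑(g.opensRange) := by rw [hg]; exact hW
    exact IsAffine.of_isIso g.isoOpensRange.hom
  exact HV.of_iso (restrictDUnitIso g).symm (HV_unit_affine T)

/-- union of the basic opens of a list of global functions -/
noncomputable def basicUnion (l : List Γ(X, ⊤)) : X.Opens :=
  (l.map (fun f => X.basicOpen f)).foldr (· ⊔ ·) ⊥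

lemma basicUnion_nil : basicUnion (X := X) [] = ⊥ := rfl

lemma basicUnion_cons (f : Γ(X, ⊤)) (l : List Γ(X, ⊤)) :
    basicUnion (f :: l) = X.basicOpen f ⊔ basicUnion l := rfl

lemma basicOpen_inf_basicUnion (f : Γ(X, ⊤)) (l : List Γ(X, ⊤)) :
    X.basicOpen f ⊓ basicUnion l = basicUnion (l.map (fun g => f * g)) := by
  induction l with
  | nil => simp [basicUnion_nil]
  | cons g l ih =>
    rw [List.map_cons, basicUnion_cons, basicUnion_cons, inf_sup_left, ih, Scheme.basicOpen_mul]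

/-- **Vanishing on a union of `n + 1` basic opens of an affine scheme.** -/
theorem PWb_unit_basicUnion [IsAffine X] : ∀ (n : ℕ) (l : List Γ(X, ⊤)), l.length = n + 1 →
    PWb (Groth.Agent.H5.DQ.SchemeSide.T₀ X) (basicUnion l) (-(n : ℤ)) 0
  | 0, l, hl => by
    obtain ⟨f, rfl⟩ := List.length_eq_one_iff.1 hl
    rw [basicUnion_cons, basicUnion_nil, sup_bot_eq]
    simpa using PWb_unit_affine (X.basicOpen f) ((isAffineOpen_top X).basicOpen f)
  | n + 1, l, hl => by
    obtain ⟨f, l', rfl⟩ := List.exists_cons_of_length_eq_add_one hl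
    have hl' : l'.length = n + 1 := by simpa using hl
    rw [basicUnion_cons]
    have h1 : PWb (Groth.Agent.H5.DQ.SchemeSide.T₀ X) (X.basicOpen f) (-(n : ℤ)) 0 :=
      (PWb_unit_affine (X.basicOpen f) ((isAffineOpen_top X).basicOpen f)).mono (by omega) le_rfl
    have h2 := PWb_unit_basicUnion n l' hl'
    have h3 : PWb (Groth.Agent.H5.DQ.SchemeSide.T₀ X) (X.basicOpen f ⊓ basicUnion l')
        (-(n : ℤ)) 0 := by
      rw [basicOpen_inf_basicUnion]
      exact PWb_unit_basicUnion n _ (by simpa using hl')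
    have h4 := PWb_sup _ _ _ _ _ h1 h2 h3
    have e : (-((n + 1 : ℕ) : ℤ)) = -(n : ℤ) - 1 := by push_cast; ring
    rw [e]
    exact h4

end Groth.Agent.H5.Kosz.CoverVan
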