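import Groth.Agent.H5.Kosz.Ring

/-!
# Maps `A ⟶ N` to a complex with `fs`-power torsion cohomology factor through a Koszul complex

The canonical maps `tK l : A[0] ⟶ K(l)`, comparison maps `K(l) ⟶ K(l')` when each entry of `l` is a
multiple of the corresponding entry of `l'`, and the factorisation of `x : A[0] ⟶ N` through
`K(f₁^e, …, f_r^e)` for `e ≫ 0` when the cohomology of `N` is `fs`-power torsion.
-/

set_option autoImplicit false
set_option linter.style.haveILetI false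

universe u

open CategoryTheory Category Limits Pretriangulated DerivedCategory

attribute [local instance] HasDerivedCategory.standard

namespace Groth.Agent.H5.Kosz.Factor

open Groth.Agent.H5.Kosz.Ring

variable {A : Type u} [CommRing A]

/-- the canonical map `K(l) ⟶ K(g :: l)` -/
noncomputable def bK (g : A) (l : List A) :
    Q.obj (Koszul.koszul A l) ⟶ Q.obj (Koszul.koszul A (g :: l)) :=
  Q.map (CochainComplex.mappingCone.inr (g • 𝟙 (Koszul.koszul A l)))

/-- the distinguished triangle `K(l) --g--> K(l) --bK--> K(g :: l) -->` -/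
lemma exists_koszul_triangle' (g : A) (l : List A) :
    ∃ (c : Q.obj (Koszul.koszul A (g :: l)) ⟶ (Q.obj (Koszul.koszul A l))⟦(1 : ℤ)⟧),
      Triangle.mk (g • 𝟙 (Q.obj (Koszul.koszul A l))) (bK g l) c ∈
        distTriang (DerivedCategory (ModuleCat.{u} A)) := by
  have h := mappingCone_triangle_distinguished (g • 𝟙 (Koszul.koszul A l))
  have e : Q.map (g • 𝟙 (Koszul.koszul A l)) = g • 𝟙 (Q.obj (Koszul.koszul A l)) := by
    rw [Functor.map_smul, CategoryTheory.Functor.map_id]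
  refine ⟨Q.map (CochainComplex.mappingCone.triangle (g • 𝟙 (Koszul.koszul A l))).mor₃ ≫
      (Q.commShiftIso (1 : ℤ)).hom.app _, ?_⟩
  rw [← e]
  exact h

/-- the canonical map `A[0] ⟶ K(l)` -/
noncomputable def tK : ∀ l : List A, T₀ A ⟶ Q.obj (Koszul.koszul A l)
  | [] => koszulNilIso.inv
  | g :: l => tK l ≫ bK g l

lemma tK_cons (g : A) (l : List A) : tK (g :: l) = tK l ≫ bK g l := rfl

/-- comparison maps between Koszul complexes -/
theorem exists_comparison : ∀ (l l' : List A),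
    List.Forall₂ (fun a b => ∃ c, a = c * b) l l' →
    ∃ φ : Q.obj (Koszul.koszul A l) ⟶ Q.obj (Koszul.koszul A l'), tK l ≫ φ = tK l'
  | _, _, List.Forall₂.nil => ⟨𝟙 _, Category.comp_id _⟩
  | _, _, List.Forall₂.cons (a := a) (b := b) (l₁ := l) (l₂ := l') ⟨c, hc⟩ h => by
    obtain ⟨φ, hφ⟩ := exists_comparison l l' h
    obtain ⟨c₁, hT₁⟩ := exists_koszul_triangle' a l
    obtain ⟨c₂, hT₂⟩ := exists_koszul_triangle' b l'
    have comm : (Triangle.mk (a • 𝟙 (Q.obj (Koszul.koszul A l))) (bK a l) c₁).mor₁ ≫ φ =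
        (c • φ) ≫ (Triangle.mk (b • 𝟙 (Q.obj (Koszul.koszul A l'))) (bK b l') c₂).mor₁ := by
      change (a • 𝟙 _) ≫ φ = (c • φ) ≫ (b • 𝟙 _)
      rw [Linear.smul_comp, Category.id_comp, Linear.comp_smul, Category.comp_id,
        smul_smul, hc, mul_comm]
    obtain ⟨Φ₀, hΦ₀, -⟩ := complete_distinguished_triangle_morphism _ _ hT₁ hT₂ (c • φ) φ comm
    obtain ⟨Φ, hΦ'⟩ : ∃ Φ : Q.obj (Koszul.koszul A (a :: l)) ⟶ Q.obj (Koszul.koszul A (b :: l')),
        bK a l ≫ Φ = φ ≫ bK b l' := ⟨Φ₀, hΦ₀⟩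
    refine ⟨Φ, ?_⟩
    rw [tK_cons, tK_cons, Category.assoc, hΦ', ← Category.assoc, hφ]

/-- comparison maps for powers -/
lemma exists_comparison_pow (l : List A) (e e' : ℕ) (h : e' ≤ e) :
    ∃ φ : Q.obj (Koszul.koszul A (l.map (· ^ e))) ⟶ Q.obj (Koszul.koszul A (l.map (· ^ e'))),
      tK (l.map (· ^ e)) ≫ φ = tK (l.map (· ^ e')) := by
  apply exists_comparison
  rw [List.forall₂_map_left_iff, List.forall₂_map_right_iff, List.forall₂_same]
  intro x _
  exact ⟨x ^ (e - e'), by rw [← pow_add, Nat.sub_add_cancel h]⟩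

/-- a map to `N` from a Koszul complex is killed by a power of `f` when `N` is `f`-torsion -/
lemma exists_pow_smul_eq_zero (f : A) (N : DerivedCategory (ModuleCat.{u} A)) (hN : Tors f N)
    (l : List A) (ψ : Q.obj (Koszul.koszul A l) ⟶ N) : ∃ k : ℕ, f ^ k • ψ = 0 := by
  let i : N ≅ N⟦(0 : ℤ)⟧ := ((shiftFunctorZero _ ℤ).app N).symm
  obtain ⟨k, hk⟩ := homTors_koszul f N hN l 0 (ψ ≫ i.hom)
  refine ⟨k, ?_⟩
  rw [← Linear.smul_comp] at hk
  exact (cancel_mono i.hom).1 (hk.trans zero_comp.symm)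

/-- a map killed by `r` factors through the cone of `r • 𝟙` -/
lemma factor_of_smul_eq_zero {X Y Z : DerivedCategory (ModuleCat.{u} A)} (r : A)
    (b : X ⟶ Y) (c : Y ⟶ X⟦(1 : ℤ)⟧)
    (hT : Triangle.mk (r • 𝟙 X) b c ∈ distTriang (DerivedCategory (ModuleCat.{u} A)))
    (χ : X ⟶ Z) (h : r • χ = 0) : ∃ ψ : Y ⟶ Z, χ = b ≫ ψ := by
  have h0 : (Triangle.mk (r • 𝟙 X) b c).mor₁ ≫ χ = 0 := by
    change (r • 𝟙 X) ≫ χ = 0
    rw [Linear.smul_comp, Category.id_comp, h]
  exact Triangle.yoneda_exact₂ _ hT χ h0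

/-- **Factorisation.** -/
theorem exists_factor_koszul : ∀ (fs : List A) (N : DerivedCategory (ModuleCat.{u} A)),
    (∀ f ∈ fs, Tors f N) → ∀ x : T₀ A ⟶ N,
    ∃ (e : ℕ) (ψ : Q.obj (Koszul.koszul A (fs.map (· ^ e))) ⟶ N), tK (fs.map (· ^ e)) ≫ ψ = x
  | [], N, _, x => ⟨0, koszulNilIso.hom ≫ x, by
      change koszulNilIso.inv ≫ koszulNilIso.hom ≫ x = x
      rw [Iso.inv_hom_id_assoc]⟩
  | g :: l, N, hN, x => by
    obtain ⟨e₁, ψ₁, h₁⟩ := exists_factor_koszul l N
      (fun f hf => hN f (List.mem_cons_of_mem _ hf)) x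
    obtain ⟨k, hk⟩ := exists_pow_smul_eq_zero g N (hN g List.mem_cons_self) _ ψ₁
    let e := max e₁ k
    obtain ⟨φ, hφ⟩ := exists_comparison_pow l e e₁ (le_max_left _ _)
    obtain ⟨c, hT⟩ := exists_koszul_triangle' (g ^ e) (l.map (· ^ e))
    have h0 : g ^ e • (φ ≫ ψ₁) = 0 := by
      rw [← Linear.comp_smul]
      have : g ^ e • ψ₁ = 0 := by
        have he : e = (e - k) + k := (Nat.sub_add_cancel (le_max_right _ _)).symm
        rw [he, pow_add, mul_smul, hk, smul_zero]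
      rw [this, comp_zero]
    obtain ⟨ψ, hψ'⟩ := factor_of_smul_eq_zero (g ^ e) _ c hT (φ ≫ ψ₁) h0
    refine ⟨e, ψ, ?_⟩
    change tK ((g ^ e) :: l.map (· ^ e)) ≫ ψ = x
    rw [tK_cons, Category.assoc, ← hψ', ← Category.assoc, hφ, h₁]

end Groth.Agent.H5.Kosz.Factor
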