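import Mathlib

/-!
# Linearity of the homology functors on the derived category of a linear abelian category
-/

set_option autoImplicit false

universe w v u t

open CategoryTheory Category Limits

namespace Groth.Agent.H5.Kosz.Linear

variable (R : Type t) [Ring R] {C : Type u} [Category.{v} C] [Abelian C] [Linear R C]

lemma shortComplexFunctor_map_smul {ι : Type*} (c : ComplexShape ι) (i : ι)
    {K L : HomologicalComplex C c} (r : R) (φ : K ⟶ L) :
    (HomologicalComplex.shortComplexFunctor C c i).map (r • φ) =
      r • (HomologicalComplex.shortComplexFunctor C c i).map φ := by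
  ext <;> rfl

lemma homologyMap_smul {ι : Type*} (c : ComplexShape ι) (i : ι)
    {K L : HomologicalComplex C c} (r : R) (φ : K ⟶ L) :
    HomologicalComplex.homologyMap (r • φ) i = r • HomologicalComplex.homologyMap φ i := by
  change ShortComplex.homologyMap ((HomologicalComplex.shortComplexFunctor C c i).map (r • φ)) = _
  rw [shortComplexFunctor_map_smul, ShortComplex.homologyMap_smul]
  rfl

variable [HasDerivedCategory.{w} C]

open DerivedCategory

/-- `H^q(r • 𝟙) = r • 𝟙` -/
lemma homologyFunctor_map_smul_id (q : ℤ) (r : R) (Y : DerivedCategory C) :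
    (homologyFunctor C q).map (r • 𝟙 Y) = r • 𝟙 _ := by
  let e : Q.obj (Q.objPreimage Y) ≅ Y := Q.objObjPreimageIso Y
  have h1 : r • 𝟙 Y = e.inv ≫ Q.map (r • 𝟙 (Q.objPreimage Y)) ≫ e.hom := by
    rw [Functor.map_smul, CategoryTheory.Functor.map_id, Linear.smul_comp, Linear.comp_smul,
      Category.id_comp, e.inv_hom_id]
  have h2 : (homologyFunctor C q).map (Q.map (r • 𝟙 (Q.objPreimage Y))) = r • 𝟙 _ := by
    have := (homologyFunctorFactors C q).hom.naturality (r • 𝟙 (Q.objPreimage Y))
    simp only [Functor.comp_map] at this
    have h3 : (HomologicalComplex.homologyFunctor C (ComplexShape.up ℤ) q).map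
        (r • 𝟙 (Q.objPreimage Y)) = r • 𝟙 _ := by
      change HomologicalComplex.homologyMap (r • 𝟙 (Q.objPreimage Y)) q = _
      rw [homologyMap_smul, HomologicalComplex.homologyMap_id]
      rfl
    rw [h3, Linear.comp_smul, Category.comp_id] at this
    rw [← cancel_mono ((homologyFunctorFactors C q).hom.app (Q.objPreimage Y)), this,
      Linear.smul_comp, Category.id_comp]
  rw [h1, Functor.map_comp, Functor.map_comp, h2, Linear.smul_comp, Linear.comp_smul,
    Category.id_comp, ← Functor.map_comp, e.inv_hom_id, CategoryTheory.Functor.map_id]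

/-- the homology functors on the derived category are linear -/
lemma homologyFunctor_map_smul (q : ℤ) (r : R) {X Y : DerivedCategory C} (φ : X ⟶ Y) :
    (homologyFunctor C q).map (r • φ) = r • (homologyFunctor C q).map φ := by
  have h : r • φ = φ ≫ (r • 𝟙 Y) := by rw [Linear.comp_smul, Category.comp_id]
  rw [h, Functor.map_comp, homologyFunctor_map_smul_id, Linear.comp_smul, Category.comp_id]

end Groth.Agent.H5.Kosz.Linear
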