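import Groth.Agent.H5.Kosz.Bound
import Groth.Agent.H33.BrownGA.GenSingle

/-!
# Koszul orthogonality and the unit `E ⟶ Rj_* j^* E` : main theorems
-/

set_option autoImplicit false
set_option linter.style.haveILetI false

universe u

open CategoryTheory Category Limits Pretriangulated DerivedCategory AlgebraicGeometry

attribute [local instance] HasDerivedCategory.standard

namespace Groth.Agent.H5.Kosz.Main

open Groth.Agent.H5.Kosz.Ring Groth.Agent.H5.Kosz.Bridge Groth.Agent.H5.Kosz.Shift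
  Groth.Agent.H5.Kosz.Unit Groth.Agent.H5.Kosz.Bound

/-- the canonical t-structure on `D(O_X)` -/
noncomputable abbrev tX (R : CommRingCat.{u}) :
    Triangulated.TStructure (DCoh.D (Spec (CommRingCat.of R))) := TStructure.t

variable (R : CommRingCat.{u}) [PreservesFiniteLimits (tilde.functor R)]
  (fs : List R) [DCoh.HasRpush (UU R fs).ι]
  (adj : DCoh.restrictD (UU R fs).ι ⊣ DCoh.Rpush (UU R fs).ι)
  (E : DCoh.D (Spec (CommRingCat.of R))) (hE : DCoh.IsQCohD E)


include hE in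
/-- vanishing of `Hom(K~[-n], E)` for `n ≤ a` makes `τ_{≤ a-1}` of the unit an isomorphism -/
theorem isIso_truncLE_unit (a : ℤ) (h : ∀ n : ℤ, n ≤ a → ∀ φ : (Kt R fs)⟦-n⟧ ⟶ E, φ = 0) :
    IsIso (((tX R).truncLE (a - 1)).map (adj.unit.app E)) := by
  obtain ⟨D⟩ := nonempty_coneData R fs adj E hE
  have hGE : D.C.IsGE a := by
    rw [isGE_iff]
    intro j hj
    exact D.isZero_HD j (fun φ => D.hom_eq_zero (-j) (-(j + 1)) (by omega)
      (h (j + 1) (by omega)) φ)
  exact (tX R).isIso₁_truncLE_map_of_isGE _ D.dist (a - 1) a (by omega) hGE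

include hE in
/-- vanishing of `Hom(K~[-n], E)` for `n ≥ a` makes `τ_{≥ a}` of the unit an isomorphism -/
theorem isIso_truncGE_unit (a : ℤ) (h : ∀ n : ℤ, a ≤ n → ∀ φ : (Kt R fs)⟦-n⟧ ⟶ E, φ = 0) :
    IsIso (((tX R).truncGE a).map (adj.unit.app E)) := by
  obtain ⟨D⟩ := nonempty_coneData R fs adj E hE
  have hLE : D.C.IsLE (a - 2) := by
    rw [isLE_iff]
    intro j hj
    exact D.isZero_HD j (fun φ => D.hom_eq_zero (-j) (-(j + 1)) (by omega)
      (h (j + 1) (by omega)) φ)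
  haveI := hLE
  have hT' := inv_rot_of_distTriang _ D.dist
  have hLE' : (tX R).IsLE (Triangle.mk (adj.unit.app E) D.v D.w).invRotate.obj₁ (a - 1) :=
    (tX R).isLE_shift D.C (a - 2) (-1) (a - 1) (by omega)
  exact (tX R).isIso₂_truncGE_map_of_isLE _ hT' (a - 1) a (by omega) hLE'

include hE in
/-- vanishing of all `Hom(K~[n], E)` makes the unit an isomorphism -/
theorem isIso_unit (h : ∀ (n : ℤ) (φ : (Kt R fs)⟦n⟧ ⟶ E), φ = 0) :
    IsIso (adj.unit.app E) := by
  obtain ⟨D⟩ := nonempty_coneData R fs adj E hE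
  have hz : IsZero D.C := by
    apply Groth.Agent.H33.BrownGA.isZero_of_isZero_homology
    intro j
    exact D.isZero_HD j (fun φ => D.hom_eq_zero (-j) (-(j + 1)) (by omega) (h _) φ)
  exact (Triangle.isZero₃_iff_isIso₁ _ D.dist).1 hz

/-- `τ_{≤ a-1}` of the unit an isomorphism implies vanishing of `Hom(K~[-n], E)`, `n ≤ a - 1` -/
theorem hom_eq_zero_of_isIso_truncLE (a : ℤ)
    (h : IsIso (((tX R).truncLE (a - 1)).map (adj.unit.app E))) (n : ℤ) (hn : n ≤ a - 1)
    (φ : (Kt R fs)⟦-n⟧ ⟶ E) : φ = 0 := by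
  haveI := isLE_Kt R fs
  haveI h1 : (tX R).IsLE ((Kt R fs)⟦-n⟧) n := (tX R).isLE_shift (Kt R fs) 0 (-n) n (by omega)
  haveI h2 : (tX R).IsLE ((Kt R fs)⟦-n⟧) (a - 1) := (tX R).isLE_of_le _ n (a - 1) hn
  have h3 : (tX R).liftTruncLE φ (a - 1) ≫ ((tX R).truncLE (a - 1)).map (adj.unit.app E) = 0 := by
    apply (tX R).to_truncLE_obj_ext
    rw [Category.assoc, ((tX R).truncLEι (a - 1)).naturality, Functor.id_map,
      (tX R).liftTruncLE_ι_assoc, zero_comp]
    exact hom_koszul_Rpush_eq_zero R fs adj _ (-n) _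
  have h4 : (tX R).liftTruncLE φ (a - 1) = 0 :=
    (cancel_mono (((tX R).truncLE (a - 1)).map (adj.unit.app E))).1 (h3.trans zero_comp.symm)
  rw [← (tX R).liftTruncLE_ι φ (a - 1), h4, zero_comp]

include hE in
/-- `τ_{≥ a}` of the unit an isomorphism implies vanishing of `Hom(K~[-n], E)`, `n ≥ a + r` -/
theorem hom_eq_zero_of_isIso_truncGE (a : ℤ)
    (h : IsIso (((tX R).truncGE a).map (adj.unit.app E))) (n : ℤ) (hn : a + (fs.length : ℤ) ≤ n)
    (φ : (Kt R fs)⟦-n⟧ ⟶ E) : φ = 0 := by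
  have h3 : (φ ≫ ((tX R).truncGEπ a).app E) ≫ ((tX R).truncGE a).map (adj.unit.app E) = 0 := by
    rw [Category.assoc, ← ((tX R).truncGEπ a).naturality, Functor.id_map, ← Category.assoc,
      hom_koszul_Rpush_eq_zero R fs adj _ (-n) (φ ≫ adj.unit.app E), zero_comp]
  have h4 : φ ≫ ((tX R).truncGEπ a).app E = 0 :=
    (cancel_mono (((tX R).truncGE a).map (adj.unit.app E))).1 (h3.trans zero_comp.symm)
  obtain ⟨φ', hφ'⟩ := Triangle.coyoneda_exact₂ _ ((tX R).triangleLTGE_distinguished a E) φ h4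
  have hL : DCoh.IsQCohD (((tX R).truncLT a).obj E) :=
    Groth.Agent.H5.HomVan.Basic.isQCohD_truncLT E hE a
  have hb : (((tX R).truncLT a).obj E).IsLE (a - 1) :=
    (inferInstance : (tX R).IsLE (((tX R).truncLT a).obj E) (a - 1))
  have h5 : φ' = 0 := hom_Kt_shift_eq_zero R fs _ hL (a - 1) n hb (by omega) φ'
  rw [hφ', h5]
  exact zero_comp

end Groth.Agent.H5.Kosz.Main
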