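import Groth.Agent.H12.QCohAbelian
import Groth.Agent.H12.QCohExt
import Groth.Prelude.Def_DCoh3

/-!
# `D_QCoh` is closed under cones

A five-term exact sequence lemma for quasi-coherent modules, and the two-out-of-three property of
`DCoh.IsQCohD` in distinguished triangles.
-/

set_option autoImplicit false
set_option linter.style.haveILetI false

universe u

open CategoryTheory Category Limits Pretriangulated DerivedCategory AlgebraicGeometry

attribute [local instance] HasDerivedCategory.standard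

namespace Groth.Agent.H5.Kosz.QCohTri

variable {X : Scheme.{u}}

/-- five-term exact sequence: if `A → B → C → D → E` is exact at `B`, `C`, `D` and
`A, B, D, E` are quasi-coherent, then so is `C`. -/
theorem isQuasicoherent_of_five {A B C D E : X.Modules} (a : A ⟶ B) (b : B ⟶ C) (c : C ⟶ D)
    (d : D ⟶ E) (hab : a ≫ b = 0) (hbc : b ≫ c = 0) (hcd : c ≫ d = 0)
    (eB : (ShortComplex.mk a b hab).Exact) (eC : (ShortComplex.mk b c hbc).Exact)
    (eD : (ShortComplex.mk c d hcd).Exact)
    [A.IsQuasicoherent] [B.IsQuasicoherent] [D.IsQuasicoherent] [E.IsQuasicoherent] :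
    C.IsQuasicoherent := by
  haveI hK : (kernel d).IsQuasicoherent := Groth.Agent.H12.QCohAbelian.isQuasicoherent_kernel d
  haveI hQ : (cokernel a).IsQuasicoherent :=
    Groth.Agent.H12.QCohAbelian.isQuasicoherent_cokernel a
  let b' : cokernel a ⟶ C := cokernel.desc a b hab
  let c' : C ⟶ kernel d := kernel.lift d c hcd
  haveI hb' : Mono b' := eB.mono_cokernelDesc
  haveI hc' : Epi c' := eD.epi_kernelLift
  have hz : b' ≫ c' = 0 := by
    rw [← cancel_epi (cokernel.π a), ← cancel_mono (kernel.ι d)]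
    simp [b', c', hbc]
  have hz1 : b' ≫ c = 0 := by
    rw [← cancel_epi (cokernel.π a)]
    simp [b', hbc]
  let S₀ : ShortComplex X.Modules := ShortComplex.mk b c hbc
  let S₁ : ShortComplex X.Modules := ShortComplex.mk b' c hz1
  let S₂ : ShortComplex X.Modules := ShortComplex.mk b' c' hz
  let φ : S₀ ⟶ S₁ :=
    { τ₁ := cokernel.π a
      τ₂ := 𝟙 _
      τ₃ := 𝟙 _
      comm₁₂ := by simp [S₀, S₁, b']
      comm₂₃ := by simp [S₀, S₁] }
  let ψ : S₂ ⟶ S₁ :=
    { τ₁ := 𝟙 _
      τ₂ := 𝟙 _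
      τ₃ := kernel.ι d
      comm₁₂ := by simp [S₂, S₁]
      comm₂₃ := by simp [S₂, S₁, c'] }
  haveI : Epi φ.τ₁ := inferInstanceAs (Epi (cokernel.π a))
  haveI : IsIso φ.τ₂ := inferInstanceAs (IsIso (𝟙 _))
  haveI : Mono φ.τ₃ := inferInstanceAs (Mono (𝟙 _))
  haveI : Epi ψ.τ₁ := inferInstanceAs (Epi (𝟙 _))
  haveI : IsIso ψ.τ₂ := inferInstanceAs (IsIso (𝟙 _))
  haveI : Mono ψ.τ₃ := inferInstanceAs (Mono (kernel.ι d))
  have e1 : S₁.Exact := (ShortComplex.exact_iff_of_epi_of_isIso_of_mono φ).1 eC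
  have e2 : S₂.Exact := (ShortComplex.exact_iff_of_epi_of_isIso_of_mono ψ).2 e1
  haveI : Mono S₂.f := hb'
  haveI : Epi S₂.g := hc'
  have hS : S₂.ShortExact := ShortComplex.ShortExact.mk e2
  haveI : S₂.X₁.IsQuasicoherent := hQ
  haveI : S₂.X₃.IsQuasicoherent := hK
  exact Groth.Agent.H12.QCohExt.isQuasicoherent_of_shortExact S₂ hS

/-- in a distinguished triangle with first two vertices in `D_QCoh`, the third is in `D_QCoh` -/
theorem isQCohD_obj₃ (T : Triangle (DCoh.D X)) (hT : T ∈ distTriang (DCoh.D X))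
    (h1 : DCoh.IsQCohD T.obj₁) (h2 : DCoh.IsQCohD T.obj₂) : DCoh.IsQCohD T.obj₃ := by
  intro i
  haveI : ((homologyFunctor X.Modules i).obj T.obj₁).IsQuasicoherent := h1 i
  haveI : ((homologyFunctor X.Modules i).obj T.obj₂).IsQuasicoherent := h2 i
  haveI : ((homologyFunctor X.Modules (i + 1)).obj T.obj₁).IsQuasicoherent := h1 (i + 1)
  haveI : ((homologyFunctor X.Modules (i + 1)).obj T.obj₂).IsQuasicoherent := h2 (i + 1)
  exact isQuasicoherent_of_five
    ((homologyFunctor X.Modules i).map T.mor₁) ((homologyFunctor X.Modules i).map T.mor₂)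
    (HomologySequence.δ T i (i + 1) rfl) ((homologyFunctor X.Modules (i + 1)).map T.mor₁)
    _ (HomologySequence.comp_δ T hT i (i + 1) rfl) (HomologySequence.δ_comp T hT i (i + 1) rfl)
    (HomologySequence.exact₂ T hT i) (HomologySequence.exact₃ T hT i (i + 1) rfl)
    (HomologySequence.exact₁ T hT i (i + 1) rfl)

/-- in a distinguished triangle with last two vertices in `D_QCoh`, the first is in `D_QCoh` -/
theorem isQCohD_obj₁ (T : Triangle (DCoh.D X)) (hT : T ∈ distTriang (DCoh.D X))
    (h2 : DCoh.IsQCohD T.obj₂) (h3 : DCoh.IsQCohD T.obj₃) : DCoh.IsQCohD T.obj₁ := by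
  intro i
  haveI : ((homologyFunctor X.Modules i).obj T.obj₂).IsQuasicoherent := h2 i
  haveI : ((homologyFunctor X.Modules i).obj T.obj₃).IsQuasicoherent := h3 i
  haveI : ((homologyFunctor X.Modules (i - 1)).obj T.obj₂).IsQuasicoherent := h2 (i - 1)
  haveI : ((homologyFunctor X.Modules (i - 1)).obj T.obj₃).IsQuasicoherent := h3 (i - 1)
  exact isQuasicoherent_of_five
    ((homologyFunctor X.Modules (i - 1)).map T.mor₂)
    (HomologySequence.δ T (i - 1) i (by omega)) ((homologyFunctor X.Modules i).map T.mor₁)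
    ((homologyFunctor X.Modules i).map T.mor₂)
    (HomologySequence.comp_δ T hT (i - 1) i (by omega))
    (HomologySequence.δ_comp T hT (i - 1) i (by omega)) _
    (HomologySequence.exact₃ T hT (i - 1) i (by omega))
    (HomologySequence.exact₁ T hT (i - 1) i (by omega))
    (HomologySequence.exact₂ T hT i)

end Groth.Agent.H5.Kosz.QCohTri
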