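import Groth.Agent.H5.Kosz.Linear
import Groth.Agent.H5.DQ.RingSide
import Groth.Prelude.Def_Koszul

/-!
# The Koszul complex as a generator of complexes with torsion cohomology (ring side)

For `N ∈ D(A)` whose cohomology modules are `f`-power torsion for every `f` of a list `fs`:
if all maps `K(fs) ⟶ N[j]` vanish then `H^j(N) = 0`.  Also: a power of each `f ∈ fs` kills
`K(fs)` in `D(A)`.
-/

set_option autoImplicit false
set_option linter.style.haveILetI false

universe u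

open CategoryTheory Category Limits Pretriangulated DerivedCategory

attribute [local instance] HasDerivedCategory.standard

namespace Groth.Agent.H5.Kosz.Ring

open Groth.Agent.H5.DQ.HomSingle Groth.Agent.H5.DQ.RingSide Groth.Agent.H5.Kosz.Linear

variable {A : Type u} [CommRing A]

/-- `A` in degree `0` -/
noncomputable abbrev T₀ (A : Type u) [CommRing A] : DerivedCategory (ModuleCat.{u} A) :=
  (singleFunctor (ModuleCat.{u} A) 0).obj (ModuleCat.of A A)

/-- the cohomology modules are `f`-power torsion -/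
def Tors (f : A) (N : DerivedCategory (ModuleCat.{u} A)) : Prop :=
  ∀ (q : ℤ) (x : ((homologyFunctor (ModuleCat.{u} A) q).obj N : ModuleCat.{u} A)),
    ∃ k : ℕ, f ^ k • x = 0

/-- every map `P ⟶ N[j]` is killed by a power of `f` -/
def HomTors (f : A) (P N : DerivedCategory (ModuleCat.{u} A)) : Prop :=
  ∀ (j : ℤ) (φ : P ⟶ N⟦j⟧), ∃ k : ℕ, f ^ k • φ = 0

lemma HomTors.of_iso {f : A} {P P' N : DerivedCategory (ModuleCat.{u} A)} (e : P ≅ P')
    (h : HomTors f P N) : HomTors f P' N := by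
  intro j φ
  obtain ⟨k, hk⟩ := h j (e.hom ≫ φ)
  refine ⟨k, ?_⟩
  rw [← Linear.comp_smul] at hk
  exact (cancel_epi e.hom).1 (hk.trans comp_zero.symm)

instance projective_self : Projective (ModuleCat.of A A) :=
  ModuleCat.projective_of_free (Module.Free.of_basis
    (Module.Basis.singleton Unit A)).chooseBasis

/-- the generator of `H^0(A[0])` -/
noncomputable def e₁ : (homologyFunctor (ModuleCat.{u} A) 0).obj (T₀ A) ≅ ModuleCat.of A A :=
  (singleFunctorCompHomologyFunctorIso (ModuleCat.{u} A) 0).app (ModuleCat.of A A)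

/-- `H^0(N[j]) ≅ H^j(N)` -/
noncomputable def e₂ (N : DerivedCategory (ModuleCat.{u} A)) (j : ℤ) :
    (homologyFunctor (ModuleCat.{u} A) 0).obj (N⟦j⟧) ≅ (homologyFunctor (ModuleCat.{u} A) j).obj N :=
  ((homologyFunctor (ModuleCat.{u} A) 0).shiftIso j 0 j (by omega)).app N

lemma eq_smul_gen (y : ((homologyFunctor (ModuleCat.{u} A) 0).obj (T₀ A) : ModuleCat.{u} A)) :
    y = (e₁.hom y : A) • (e₁ (A := A)).inv (1 : A) := by
  have h : (e₁ (A := A)).inv ((e₁ (A := A)).hom y) = y := by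
    rw [← ModuleCat.comp_apply, Iso.hom_inv_id]; rfl
  conv_lhs => rw [← h]
  rw [← map_smul]
  congr 1
  exact (mul_one _).symm

/-- **R1** -/
theorem homTors_T₀ (f : A) (N : DerivedCategory (ModuleCat.{u} A)) (hN : Tors f N) :
    HomTors f (T₀ A) N := by
  intro j φ
  let c := cmap (T₀ A) (N⟦j⟧) φ
  let g₀ : ((homologyFunctor (ModuleCat.{u} A) 0).obj (T₀ A) : ModuleCat.{u} A) :=
    (e₁ (A := A)).inv.hom (1 : A)
  obtain ⟨k, hk⟩ := hN j ((e₂ N j).hom.hom (c.hom g₀))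
  refine ⟨k, ?_⟩
  apply (bijective_cmap_projective (ModuleCat.of A A) (N⟦j⟧)).1
  have h0 : cmap (T₀ A) (N⟦j⟧) 0 = 0 := Functor.map_zero _ _ _
  rw [h0]
  have h1 : cmap (T₀ A) (N⟦j⟧) (f ^ k • φ) = f ^ k • c :=
    homologyFunctor_map_smul A 0 (f ^ k) φ
  rw [h1]
  have h2 : f ^ k • c.hom g₀ = 0 := by
    apply (ConcreteCategory.bijective_of_isIso (e₂ N j).hom).1
    have : (e₂ N j).hom.hom (f ^ k • c.hom g₀) = f ^ k • (e₂ N j).hom.hom (c.hom g₀) :=
      map_smul _ _ _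
    exact this.trans (hk.trans (map_zero (e₂ N j).hom.hom).symm)
  apply ModuleCat.hom_ext
  apply LinearMap.ext
  intro y
  rw [ModuleCat.hom_smul, LinearMap.smul_apply, ModuleCat.hom_zero, LinearMap.zero_apply]
  have hy : y = ((e₁ (A := A)).hom.hom y : A) • g₀ := eq_smul_gen y
  rw [hy, map_smul, smul_comm, h2, smul_zero]

/-- **R0** -/
theorem isZero_homology_of_hom_T₀ (N : DerivedCategory (ModuleCat.{u} A)) (j : ℤ)
    (h : ∀ φ : T₀ A ⟶ N⟦j⟧, φ = 0) : IsZero ((homologyFunctor (ModuleCat.{u} A) j).obj N) := by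
  haveI : Subsingleton ((homologyFunctor (ModuleCat.{u} A) j).obj N : ModuleCat.{u} A) := by
    refine ⟨fun m m' => ?_⟩
    suffices hz : ∀ m : ((homologyFunctor (ModuleCat.{u} A) j).obj N : ModuleCat.{u} A), m = 0 by
      rw [hz m, hz m']
    intro m
    let g : ModuleCat.of A A ⟶ (homologyFunctor (ModuleCat.{u} A) j).obj N :=
      ModuleCat.ofHom (LinearMap.toSpanSingleton A _ m)
    obtain ⟨φ, hφ⟩ := (bijective_cmap_projective (ModuleCat.of A A) (N⟦j⟧)).2
      ((e₁ (A := A)).hom ≫ g ≫ (e₂ N j).inv)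
    rw [h φ] at hφ
    have h0 : cmap (T₀ A) (N⟦j⟧) 0 = 0 := Functor.map_zero _ _ _
    rw [h0] at hφ
    have hg : g = 0 := by
      have h1 : g = (e₁ (A := A)).inv ≫ ((e₁ (A := A)).hom ≫ g ≫ (e₂ N j).inv) ≫ (e₂ N j).hom := by
        simp
      rw [h1, ← hφ, zero_comp, comp_zero]
    have h2 : g (1 : A) = m := by
      change LinearMap.toSpanSingleton A _ m 1 = m
      rw [LinearMap.toSpanSingleton_apply, one_smul]
    rw [← h2, hg]
    rfl
  exact ModuleCat.isZero_of_subsingleton _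

/-- shift invariance of `HomTors` in the source -/
lemma HomTors.shift {f : A} {P N : DerivedCategory (ModuleCat.{u} A)} (h : HomTors f P N) :
    HomTors f (P⟦(1 : ℤ)⟧) N := by
  intro j g
  let a : P ≅ (P⟦(1 : ℤ)⟧)⟦(-1 : ℤ)⟧ :=
    (shiftFunctorCompIsoId (DerivedCategory (ModuleCat.{u} A)) (1 : ℤ) (-1 : ℤ)
      (by norm_num)).symm.app P
  let b : (N⟦j⟧)⟦(-1 : ℤ)⟧ ≅ N⟦j - 1⟧ :=
    ((shiftFunctorAdd' (DerivedCategory (ModuleCat.{u} A)) j (-1) (j - 1) (by omega)).app N).symm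
  obtain ⟨l, hl⟩ := h (j - 1) (a.hom ≫ g⟦(-1 : ℤ)⟧' ≫ b.hom)
  refine ⟨l, ?_⟩
  rw [← Linear.comp_smul, ← Linear.smul_comp] at hl
  have h1 := (cancel_epi a.hom).1 (hl.trans comp_zero.symm)
  have h2 := (cancel_mono b.hom).1 (h1.trans zero_comp.symm)
  rw [← Functor.map_smul] at h2
  apply (shiftFunctor (DerivedCategory (ModuleCat.{u} A)) (-1 : ℤ)).map_injective
  rw [h2, Functor.map_zero]

/-- **R2** -/
theorem HomTors.of_triangle {f : A} {N : DerivedCategory (ModuleCat.{u} A)}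
    (T : Triangle (DerivedCategory (ModuleCat.{u} A)))
    (hT : T ∈ distTriang (DerivedCategory (ModuleCat.{u} A)))
    (h1 : HomTors f T.obj₁ N) (h2 : HomTors f T.obj₂ N) : HomTors f T.obj₃ N := by
  intro j φ
  obtain ⟨k, hk⟩ := h2 j (T.mor₂ ≫ φ)
  rw [← Linear.comp_smul] at hk
  obtain ⟨g, hg⟩ := Triangle.yoneda_exact₃ T hT (f ^ k • φ) hk
  obtain ⟨l, hl⟩ := h1.shift j g
  refine ⟨l + k, ?_⟩
  rw [pow_add, mul_smul, hg, ← Linear.comp_smul, hl, comp_zero]

/-- the triangle of the mapping cone of multiplication by `g` -/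
lemma koszul_cons (g : A) (l : List A) :
    Koszul.koszul A (g :: l) = CochainComplex.mappingCone (g • 𝟙 (Koszul.koszul A l)) := rfl

/-- the distinguished triangle `K(l) --g--> K(l) --> K(g :: l) -->` -/
lemma exists_koszul_triangle (g : A) (l : List A) :
    ∃ (b : Q.obj (Koszul.koszul A l) ⟶ Q.obj (Koszul.koszul A (g :: l)))
      (c : Q.obj (Koszul.koszul A (g :: l)) ⟶ (Q.obj (Koszul.koszul A l))⟦(1 : ℤ)⟧),
      Triangle.mk (g • 𝟙 (Q.obj (Koszul.koszul A l))) b c ∈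
        distTriang (DerivedCategory (ModuleCat.{u} A)) := by
  have h := mappingCone_triangle_distinguished (g • 𝟙 (Koszul.koszul A l))
  have e : Q.map (g • 𝟙 (Koszul.koszul A l)) = g • 𝟙 (Q.obj (Koszul.koszul A l)) := by
    rw [Functor.map_smul, CategoryTheory.Functor.map_id]
  refine ⟨Q.map (CochainComplex.mappingCone.inr _),
    Q.map (CochainComplex.mappingCone.triangle (g • 𝟙 (Koszul.koszul A l))).mor₃ ≫
      (Q.commShiftIso (1 : ℤ)).hom.app _, ?_⟩
  rw [← e]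
  exact h

/-- `K([]) = A[0]` -/
noncomputable def koszulNilIso : Q.obj (Koszul.koszul A []) ≅ T₀ A :=
  ((singleFunctorIsoCompQ (ModuleCat.{u} A) 0).app (ModuleCat.of A A)).symm

/-- **R3** -/
theorem homTors_koszul (f : A) (N : DerivedCategory (ModuleCat.{u} A)) (hN : Tors f N) :
    ∀ l : List A, HomTors f (Q.obj (Koszul.koszul A l)) N
  | [] => (homTors_T₀ f N hN).of_iso koszulNilIso.symm
  | g :: l => by
    obtain ⟨b, c, hT⟩ := exists_koszul_triangle g l
    exact HomTors.of_triangle _ hT (homTors_koszul f N hN l) (homTors_koszul f N hN l)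

/-- injectivity of multiplication by `r` on maps out of the first vertex of the triangle of
`r • 𝟙` when all maps out of the cone vanish -/
lemma eq_zero_of_smul_eq_zero {X Y Z : DerivedCategory (ModuleCat.{u} A)} (r : A)
    (b : X ⟶ Y) (c : Y ⟶ X⟦(1 : ℤ)⟧)
    (hT : Triangle.mk (r • 𝟙 X) b c ∈ distTriang (DerivedCategory (ModuleCat.{u} A)))
    (h : ∀ ψ : Y ⟶ Z, ψ = 0) (χ : X ⟶ Z) (hχ : r • χ = 0) : χ = 0 := by
  have h1 : (Triangle.mk (r • 𝟙 X) b c).mor₁ ≫ χ = 0 := by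
    change (r • 𝟙 X) ≫ χ = 0
    rw [Linear.smul_comp, Category.id_comp, hχ]
  obtain ⟨ψ, hψ⟩ := Triangle.yoneda_exact₂ _ hT χ h1
  rw [hψ, h ψ]
  exact comp_zero

/-- **R4** -/
theorem hom_koszul_tail_eq_zero (g : A) (l : List A) (N : DerivedCategory (ModuleCat.{u} A))
    (hN : Tors g N) (j : ℤ) (h : ∀ ψ : Q.obj (Koszul.koszul A (g :: l)) ⟶ N⟦j⟧, ψ = 0)
    (φ : Q.obj (Koszul.koszul A l) ⟶ N⟦j⟧) : φ = 0 := by
  obtain ⟨b, c, hT⟩ := exists_koszul_triangle g l
  have hinj : ∀ χ : Q.obj (Koszul.koszul A l) ⟶ N⟦j⟧, g • χ = 0 → χ = 0 :=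
    fun χ hχ => eq_zero_of_smul_eq_zero g b c hT h χ hχ
  obtain ⟨k, hk⟩ := homTors_koszul g N hN l j φ
  induction k with
  | zero => simpa using hk
  | succ k ih =>
    apply ih
    apply hinj
    rw [← mul_smul, ← pow_succ']
    exact hk

/-- **Generation.** -/
theorem isZero_homology_of_hom_koszul (N : DerivedCategory (ModuleCat.{u} A)) (j : ℤ) :
    ∀ (fs : List A), (∀ f ∈ fs, Tors f N) →
      (∀ ψ : Q.obj (Koszul.koszul A fs) ⟶ N⟦j⟧, ψ = 0) →
      IsZero ((homologyFunctor (ModuleCat.{u} A) j).obj N)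
  | [], _, h => isZero_homology_of_hom_T₀ N j (fun φ => by
      have := h (koszulNilIso.hom ≫ φ)
      exact (cancel_epi koszulNilIso.hom).1 (this.trans comp_zero.symm))
  | g :: l, hN, h => isZero_homology_of_hom_koszul N j l
      (fun f hf => hN f (List.mem_cons_of_mem _ hf))
      (fun φ => hom_koszul_tail_eq_zero g l N (hN g List.mem_cons_self) j h φ)

/-- in the triangle of `r • 𝟙 X`, a scalar `s` killing `X` up to the adjacent maps kills the cone
after squaring -/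
lemma smul_sq_eq_zero {X Y : DerivedCategory (ModuleCat.{u} A)} (r s : A)
    (b : X ⟶ Y) (c : Y ⟶ X⟦(1 : ℤ)⟧)
    (hT : Triangle.mk (r • 𝟙 X) b c ∈ distTriang (DerivedCategory (ModuleCat.{u} A)))
    (h1 : (s • 𝟙 X) ≫ b = 0) (h2 : c ≫ (s • 𝟙 X)⟦(1 : ℤ)⟧' = 0) :
    (s * s) • 𝟙 Y = 0 := by
  have ha : (Triangle.mk (r • 𝟙 X) b c).mor₂ ≫ (s • 𝟙 Y) = 0 := by
    change b ≫ (s • 𝟙 Y) = 0
    rw [Linear.comp_smul, Category.comp_id]
    rw [Linear.smul_comp, Category.id_comp] at h1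
    exact h1
  have hb : (s • 𝟙 Y) ≫ c = 0 := by
    rw [Linear.smul_comp, Category.id_comp]
    rw [Functor.map_smul, CategoryTheory.Functor.map_id, Linear.comp_smul,
      Category.comp_id] at h2
    exact h2
  obtain ⟨h, hh⟩ := Triangle.yoneda_exact₃ _ hT _ ha
  have hh' : s • 𝟙 Y = c ≫ h := hh
  have : (s * s) • 𝟙 Y = (s • 𝟙 Y) ≫ (s • 𝟙 Y) := by
    rw [Linear.smul_comp, Linear.comp_smul, Category.id_comp, mul_smul]
  rw [this]
  calc (s • 𝟙 Y) ≫ (s • 𝟙 Y) = (s • 𝟙 Y) ≫ (c ≫ h) := by rw [← hh']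
    _ = ((s • 𝟙 Y) ≫ c) ≫ h := (Category.assoc _ _ _).symm
    _ = 0 := by rw [hb]; exact zero_comp

/-- **A power of each `f ∈ fs` kills the Koszul complex in `D(A)`.** -/
theorem exists_pow_smul_id_koszul_eq_zero :
    ∀ (fs : List A) (f : A), f ∈ fs → ∃ k : ℕ, f ^ k • 𝟙 (Q.obj (Koszul.koszul A fs)) = 0
  | [], f, hf => by simp at hf
  | g :: l, f, hf => by
    obtain ⟨b, c, hT⟩ := exists_koszul_triangle g l
    rcases List.mem_cons.1 hf with rfl | hf'
    · refine ⟨2, ?_⟩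
      rw [pow_two]
      refine smul_sq_eq_zero f f b c hT ?_ ?_
      · exact comp_distTriang_mor_zero₁₂ _ hT
      · exact comp_distTriang_mor_zero₃₁ _ hT
    · obtain ⟨k, hk⟩ := exists_pow_smul_id_koszul_eq_zero l f hf'
      refine ⟨k + k, ?_⟩
      rw [pow_add]
      refine smul_sq_eq_zero g (f ^ k) b c hT ?_ ?_
      · rw [hk, zero_comp]
      · rw [hk, Functor.map_zero, comp_zero]

/-- the cohomology of the Koszul complex is `f`-power torsion for `f ∈ fs` -/
theorem tors_koszul (fs : List A) (f : A) (hf : f ∈ fs) :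
    Tors f (Q.obj (Koszul.koszul A fs)) := by
  obtain ⟨k, hk⟩ := exists_pow_smul_id_koszul_eq_zero fs f hf
  intro q x
  refine ⟨k, ?_⟩
  have h := homologyFunctor_map_smul_id A q (f ^ k) (Q.obj (Koszul.koszul A fs))
  rw [hk, Functor.map_zero] at h
  have h2 := congrArg (fun φ : (homologyFunctor (ModuleCat.{u} A) q).obj
    (Q.obj (Koszul.koszul A fs)) ⟶ _ => φ.hom x) h
  simp only [ModuleCat.hom_zero, LinearMap.zero_apply, ModuleCat.hom_smul, ModuleCat.hom_id,
    LinearMap.smul_apply, LinearMap.id_coe, id_eq] at h2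
  exact h2.symm

end Groth.Agent.H5.Kosz.Ring
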