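import Groth.Agent.H5.Kosz.Main
import Groth.Agent.H5.Kosz.Factor
import Groth.Agent.H5.Kosz.CoverVan

/-!
# Sections of `E` factor through a Koszul complex

`X = Spec R`, `U = X ∖ V(f₁, …, f_r)`, `E ∈ D_QCoh(X)` with `H^i(E)|_U = 0` for `-r < i ≤ 0`: every
`s : O_X ⟶ E` factors through the Koszul object on `f₁^e, …, f_r^e` for some `e`.
-/

set_option autoImplicit false
set_option linter.style.haveILetI false

universe u

open CategoryTheory Category Limits Pretriangulated DerivedCategory AlgebraicGeometry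
  Scheme.Modules

attribute [local instance] HasDerivedCategory.standard

namespace Groth.Agent.H5.Kosz.Section

open Groth.Agent.H5.Kosz.Ring Groth.Agent.H5.Kosz.Bridge Groth.Agent.H5.Kosz.Shift
  Groth.Agent.H5.Kosz.Unit Groth.Agent.H5.Kosz.Factor Groth.Agent.H5.Kosz.CoverVan
  Groth.Agent.H5.HomVan.Basic Groth.Agent.H5.HomVan.MV

variable (R : CommRingCat.{u})

lemma mem_basicUnion {X : Scheme.{u}} (l : List Γ(X, ⊤)) (x : X) :
    x ∈ basicUnion l ↔ ∃ g ∈ l, x ∈ X.basicOpen g := by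
  induction l with
  | nil => simp [basicUnion_nil]
  | cons g l ih =>
    rw [basicUnion_cons]
    constructor
    · rintro (h | h)
      · exact ⟨g, List.mem_cons_self, h⟩
      · obtain ⟨g', hg', hx⟩ := ih.1 h
        exact ⟨g', List.mem_cons_of_mem _ hg', hx⟩
    · rintro ⟨g', hg', hx⟩
      rcases List.mem_cons.1 hg' with rfl | h
      · exact Or.inl hx
      · exact Or.inr (ih.2 ⟨g', h, hx⟩)

/-- the punctured open is the union of the basic opens -/
lemma UU_eq_basicUnion (fs : List R) :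
    UU R fs = basicUnion (X := Spec (CommRingCat.of R)) (fs.map (Scheme.ΓSpecIso R).inv) := by
  ext x
  rw [SetLike.mem_coe, SetLike.mem_coe, mem_basicUnion]
  constructor
  · intro hx
    have hx' : ¬ ((Ideal.span {a | a ∈ fs} : Ideal R) : Set R) ⊆ x.asIdeal := fun hle => hx hle
    have : ∃ f ∈ fs, f ∉ x.asIdeal := by
      by_contra hcon
      push Not at hcon
      exact hx' (Ideal.span_le.2 hcon)
    obtain ⟨f, hf, hfx⟩ := this
    refine ⟨(Scheme.ΓSpecIso R).inv f, List.mem_map.2 ⟨f, hf, rfl⟩, ?_⟩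
    have hb : (Spec R).basicOpen ((Scheme.ΓSpecIso R).inv f) = PrimeSpectrum.basicOpen f :=
      basicOpen_eq_of_affine f
    have h2 : x ∈ (PrimeSpectrum.basicOpen f : TopologicalSpace.Opens (PrimeSpectrum R)) := hfx
    rw [← hb] at h2
    exact h2
  · rintro ⟨g, hg, hx⟩
    obtain ⟨f, hf, rfl⟩ := List.mem_map.1 hg
    have hb : (Spec R).basicOpen ((Scheme.ΓSpecIso R).inv f) = PrimeSpectrum.basicOpen f :=
      basicOpen_eq_of_affine f
    have h2 : x ∈ (Spec R).basicOpen ((Scheme.ΓSpecIso R).inv f) := hx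
    rw [hb] at h2
    intro hle
    exact h2 (hle (Ideal.subset_span hf))

/-- `Hom(O_U, L) = 0` for `L ∈ D_QCoh(U)` without cohomology in `(-r, 0]` -/
theorem HV_restrict_unit (fs : List R) :
    HV ((DCoh.restrictD (UU R fs).ι).obj
      (Groth.Agent.H5.DQ.SchemeSide.T₀ (Spec (CommRingCat.of R)))) (-(fs.length : ℤ) + 1) 0 := by
  have key : PWb (Groth.Agent.H5.DQ.SchemeSide.T₀ (Spec (CommRingCat.of R))) (UU R fs)
      (-(fs.length : ℤ) + 1) 0 := by
    rw [UU_eq_basicUnion]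
    rcases Nat.eq_zero_or_pos fs.length with h0 | hpos
    · have : fs = [] := List.length_eq_zero_iff.1 h0
      subst this
      exact PWb_bot _ _ _
    · obtain ⟨n, hn⟩ := Nat.exists_eq_succ_of_ne_zero hpos.ne'
      have h1 := PWb_unit_basicUnion (X := Spec (CommRingCat.of R)) n
        (fs.map (Scheme.ΓSpecIso R).inv) (by rw [List.length_map, hn])
      have e : (-(fs.length : ℤ) + 1) = -(n : ℤ) := by rw [hn]; push_cast; ring
      rw [e]
      exact h1
  exact key _ (UU R fs).ι (Scheme.Opens.opensRange_ι _)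

variable [PreservesFiniteLimits (tilde.functor R)]

/-- **Sections factor through a Koszul complex.** -/
theorem exists_factor (fs : List R) [DCoh.HasRpush (UU R fs).ι]
    (E : DCoh.D (Spec (CommRingCat.of R))) (hE : DCoh.IsQCohD E)
    (hU : ∀ i : ℤ, -(fs.length : ℤ) < i → i ≤ 0 → IsZero ((DCoh.HD E i).restrict (UU R fs).ι))
    (s : Groth.Agent.H5.DQ.SchemeSide.T₀ (Spec (CommRingCat.of R)) ⟶ E) :
    ∃ (e : ℕ) (ψ : Kt R (fs.map (· ^ e)) ⟶ E)
      (t : Groth.Agent.H5.DQ.SchemeSide.T₀ (Spec (CommRingCat.of R)) ⟶ Kt R (fs.map (· ^ e))),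
      t ≫ ψ = s := by
  obtain ⟨hfull, hfaith, hess⟩ := Groth.Agent.H5.DQ.Main.main R
  let adj := Groth.Agent.H33.LocCoh.dadj (UU R fs).ι
  -- `s ≫ unit = 0`
  have h1 : s ≫ adj.unit.app E = 0 := by
    apply (adj.homEquiv _ _).symm.injective
    have hz : ∀ ψ : (DCoh.restrictD (UU R fs).ι).obj
        (Groth.Agent.H5.DQ.SchemeSide.T₀ (Spec (CommRingCat.of R))) ⟶
        (DCoh.restrictD (UU R fs).ι).obj E, ψ = 0 := by
      intro ψ
      refine HV_restrict_unit R fs _ (isQCohD_restrictD (UU R fs).ι E hE) (fun i h1 h2 => ?_) ψ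
      exact IsZero.of_iso (hU i (by omega) h2)
        ((Groth.Agent.H16.ExactDer.homologyNatIso (restrictFunctor (UU R fs).ι) i).app E)
    rw [hz ((adj.homEquiv _ _).symm (s ≫ adj.unit.app E)), hz ((adj.homEquiv _ _).symm 0)]
  obtain ⟨D⟩ := nonempty_coneData R fs adj E hE
  have hT' := inv_rot_of_distTriang _ D.dist
  obtain ⟨m₁, s', hs'⟩ : ∃ (m₁ : D.C⟦(-1 : ℤ)⟧ ⟶ E)
      (s' : Groth.Agent.H5.DQ.SchemeSide.T₀ (Spec (CommRingCat.of R)) ⟶ D.C⟦(-1 : ℤ)⟧),
      s = s' ≫ m₁ := by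
    obtain ⟨s', hs'⟩ := Triangle.coyoneda_exact₂ _ hT' s h1
    exact ⟨_, s', hs'⟩
  -- `C[-1] = N'~` with `N'` torsion
  have hC : DCoh.IsQCohD D.C := ((hess D.C).2 ⟨D.N, ⟨D.e⟩⟩)
  have hC' : DCoh.IsQCohD (D.C⟦(-1 : ℤ)⟧) := isQCohD_shift D.C hC (-1)
  obtain ⟨N', ⟨e'⟩⟩ := (hess _).1 hC'
  have hz0 : IsZero ((DCoh.restrictD (UU R fs).ι).obj ((DCoh.tildeD R).obj D.N)) :=
    isZero_restrictD_of_tors R {a | a ∈ fs} D.N D.tors
  have hz1 : IsZero ((DCoh.restrictD (UU R fs).ι).obj D.C) :=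
    IsZero.of_iso hz0 ((DCoh.restrictD (UU R fs).ι).mapIso D.e.symm)
  have hz2 : IsZero ((DCoh.restrictD (UU R fs).ι).obj (D.C⟦(-1 : ℤ)⟧)) :=
    IsZero.of_iso ((shiftFunctor _ (-1 : ℤ)).map_isZero hz1)
      (((DCoh.restrictD (UU R fs).ι).commShiftIso (-1 : ℤ)).app _)
  have hz3 : IsZero ((DCoh.restrictD (UU R fs).ι).obj ((DCoh.tildeD R).obj N')) :=
    IsZero.of_iso hz2 ((DCoh.restrictD (UU R fs).ι).mapIso e')
  have htors : ∀ f ∈ fs, Tors f N' := fun f hf =>
    tors_of_isZero_restrictD R _ N' hz3 f (Ideal.subset_span hf)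
  -- the ring side
  let g0 := Groth.Agent.H5.DQ.Main.GTRIso R
  obtain ⟨x, hx⟩ := (DCoh.tildeD R).map_surjective (g0.hom ≫ s' ≫ e'.inv)
  obtain ⟨e, ψ, hψ⟩ := exists_factor_koszul fs N' htors x
  refine ⟨e, (DCoh.tildeD R).map ψ ≫ e'.hom ≫ m₁, g0.inv ≫ (DCoh.tildeD R).map (tK _), ?_⟩
  rw [Category.assoc, ← Category.assoc ((DCoh.tildeD R).map (tK _)), ← Functor.map_comp, hψ, hx]
  simp only [Category.assoc, Iso.inv_hom_id_assoc]
  exact hs'.symm

end Groth.Agent.H5.Kosz.Section
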