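import Mathlib

/-!
# Moving shifts across `Hom`-vanishing statements
-/

set_option autoImplicit false

universe v u

open CategoryTheory Category Limits

namespace Groth.Agent.H5.Kosz.Shift

variable {C : Type u} [Category.{v} C] [Preadditive C] [HasShift C ℤ]
  [∀ n : ℤ, (shiftFunctor C n).Additive]

/-- general form: `Hom(P[n], Y[b]) = 0` implies `Hom(P[m], Y[a]) = 0` when `n + a = m + b` -/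
lemma orth_shift (P Y : C) (n b m a : ℤ) (h : n + a = m + b)
    (h0 : ∀ φ : P⟦n⟧ ⟶ Y⟦b⟧, φ = 0) (ψ : P⟦m⟧ ⟶ Y⟦a⟧) : ψ = 0 := by
  apply (shiftFunctor C (n - m)).map_injective
  rw [Functor.map_zero]
  let e1 : P⟦n⟧ ≅ (P⟦m⟧)⟦n - m⟧ := (shiftFunctorAdd' C m (n - m) n (by omega)).app P
  let e2 : (Y⟦a⟧)⟦n - m⟧ ≅ Y⟦b⟧ := ((shiftFunctorAdd' C a (n - m) b (by omega)).app Y).symm
  have h1 := h0 (e1.hom ≫ ψ⟦n - m⟧' ≫ e2.hom)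
  rw [← cancel_epi e1.hom, ← cancel_mono e2.hom, Category.assoc, h1, comp_zero, zero_comp]

/-- `Hom(P[-j], Y) = 0` implies `Hom(P, Y[j]) = 0` -/
lemma orth_of_neg (P Y : C) (j : ℤ) (h0 : ∀ φ : P⟦-j⟧ ⟶ Y, φ = 0) (ψ : P ⟶ Y⟦j⟧) : ψ = 0 := by
  let eP : P⟦(0 : ℤ)⟧ ≅ P := (shiftFunctorZero C ℤ).app P
  let eY : Y⟦(0 : ℤ)⟧ ≅ Y := (shiftFunctorZero C ℤ).app Y
  have h1 : ∀ φ : P⟦-j⟧ ⟶ Y⟦(0 : ℤ)⟧, φ = 0 := fun φ => by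
    have := h0 (φ ≫ eY.hom)
    rw [← cancel_mono eY.hom, this, zero_comp]
  have h2 := orth_shift P Y (-j) 0 0 j (by omega) h1 (eP.hom ≫ ψ)
  rw [← cancel_epi eP.hom, h2, comp_zero]

/-- `Hom(P, Y[j]) = 0` implies `Hom(P[-j], Y) = 0` -/
lemma orth_to_neg (P Y : C) (j : ℤ) (h0 : ∀ ψ : P ⟶ Y⟦j⟧, ψ = 0) (φ : P⟦-j⟧ ⟶ Y) : φ = 0 := by
  let eP : P⟦(0 : ℤ)⟧ ≅ P := (shiftFunctorZero C ℤ).app P
  let eY : Y⟦(0 : ℤ)⟧ ≅ Y := (shiftFunctorZero C ℤ).app Y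
  have h1 : ∀ ψ : P⟦(0 : ℤ)⟧ ⟶ Y⟦j⟧, ψ = 0 := fun ψ => by
    have := h0 (eP.inv ≫ ψ)
    rw [← cancel_epi eP.inv, this, comp_zero]
  have h2 := orth_shift P Y 0 j (-j) 0 (by omega) h1 (φ ≫ eY.inv)
  rw [← cancel_mono eY.inv, h2, zero_comp]

/-- `Hom(P[n], Y) = 0` implies `Hom(P[m], Y[a]) = 0` for `n + a = m` -/
lemma orth_shift_right (P Y : C) (n m a : ℤ) (h : n + a = m)
    (h0 : ∀ φ : P⟦n⟧ ⟶ Y, φ = 0) (ψ : P⟦m⟧ ⟶ Y⟦a⟧) : ψ = 0 := by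
  let eY : Y⟦(0 : ℤ)⟧ ≅ Y := (shiftFunctorZero C ℤ).app Y
  have h1 : ∀ φ : P⟦n⟧ ⟶ Y⟦(0 : ℤ)⟧, φ = 0 := fun φ => by
    have := h0 (φ ≫ eY.hom)
    rw [← cancel_mono eY.hom, this, zero_comp]
  exact orth_shift P Y n 0 m a (by omega) h1 ψ

/-- `Hom(P[m], Y[a]) = 0` implies `Hom(P[n], Y) = 0` for `n + a = m` -/
lemma orth_unshift_right (P Y : C) (n m a : ℤ) (h : n + a = m)
    (h0 : ∀ ψ : P⟦m⟧ ⟶ Y⟦a⟧, ψ = 0) (φ : P⟦n⟧ ⟶ Y) : φ = 0 := by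
  let eY : Y⟦(0 : ℤ)⟧ ≅ Y := (shiftFunctorZero C ℤ).app Y
  have h2 := orth_shift P Y m a n 0 (by omega) h0 (φ ≫ eY.inv)
  rw [← cancel_mono eY.inv, h2, zero_comp]

/-- `Hom(P, Y[-1]) = 0` implies `Hom(P[1], Y) = 0` -/
lemma orth_one (P Y : C) (h0 : ∀ ψ : P ⟶ Y⟦(-1 : ℤ)⟧, ψ = 0) (φ : P⟦(1 : ℤ)⟧ ⟶ Y) : φ = 0 := by
  have := orth_to_neg P Y (-1) h0
  have h1 : ∀ χ : P⟦(-(-1) : ℤ)⟧ ⟶ Y, χ = 0 := this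
  exact orth_shift_right P Y (-(-1)) 1 0 (by omega) h1
    (φ ≫ ((shiftFunctorZero C ℤ).app Y).inv) |> fun h => by
      rw [← cancel_mono ((shiftFunctorZero C ℤ).app Y).inv, h, zero_comp]

end Groth.Agent.H5.Kosz.Shift
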