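import Groth.Agent.H5.Kosz.Bridge
import Groth.Agent.H5.Kosz.QCohTri
import Groth.Agent.H5.Kosz.Shift
import Groth.Agent.H5.DQ.Main
import Groth.Agent.H5.HomVan.MV
import Groth.Agent.H16.RpushQCoh

/-!
# The cone of the unit `E ⟶ Rj_* j^* E` and the Koszul complex

`X = Spec R`, `U = X ∖ V(fs)`, `K~` the Koszul object.  For `E ∈ D_QCoh(X)` the cone `C` of the unit
is `N~` with `N` having `fs`-power torsion cohomology, hence `H^j(C) = 0` as soon as
`Hom(K~[-j], C) = 0`; and `Hom(K~[m], C) = 0` as soon as `Hom(K~[m-1], E) = 0`.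
-/

set_option autoImplicit false
set_option linter.style.haveILetI false

universe u

open CategoryTheory Category Limits Pretriangulated DerivedCategory AlgebraicGeometry

attribute [local instance] HasDerivedCategory.standard

namespace Groth.Agent.H5.Kosz.Unit

open Groth.Agent.H5.Kosz.Ring Groth.Agent.H5.Kosz.Bridge Groth.Agent.H5.Kosz.Shift

variable (R : CommRingCat.{u})

/-- the complement of `V(fs)` -/
noncomputable abbrev UU (fs : List R) : (Spec (CommRingCat.of R)).Opens :=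
  LocCoh.puncturedOpen R (Ideal.span {a | a ∈ fs})

lemma isCompact_UU (fs : List R) : IsCompact ((UU R fs : Set (Spec (CommRingCat.of R)))) := by
  classical
  have h := (PrimeSpectrum.isCompact_isOpen_iff (R := R)
    (s := (PrimeSpectrum.zeroLocus ((Ideal.span {a | a ∈ fs} : Ideal R) : Set R))ᶜ)).2
    ⟨fs.toFinset, by rw [PrimeSpectrum.zeroLocus_span, List.coe_toFinset]⟩
  exact h.1

instance quasiCompact_ι (fs : List R) : QuasiCompact (UU R fs).ι := by
  rw [quasiCompact_iff_compactSpace]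
  exact isCompact_iff_compactSpace.1 (isCompact_UU R fs)

variable [PreservesFiniteLimits (tilde.functor R)]

/-- the Koszul object of `D(O_X)` -/
noncomputable abbrev Kt (fs : List R) : DCoh.D (Spec (CommRingCat.of R)) :=
  (DCoh.tildeD R).obj (Q.obj (Koszul.koszul R fs))

variable (fs : List R) [DCoh.HasRpush (UU R fs).ι]
  (adj : DCoh.restrictD (UU R fs).ι ⊣ DCoh.Rpush (UU R fs).ι)

omit [PreservesFiniteLimits (tilde.functor R)] in
lemma isQCohD_Rpush_restrict (E : DCoh.D (Spec (CommRingCat.of R))) (hE : DCoh.IsQCohD E) :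
    DCoh.IsQCohD ((DCoh.Rpush (UU R fs).ι).obj ((DCoh.restrictD (UU R fs).ι).obj E)) :=
  Groth.Agent.H16.RpushQCoh.isQCohD_Rpush (UU R fs).ι _
    (Groth.Agent.H5.HomVan.MV.isQCohD_restrictD (UU R fs).ι E hE)

omit [PreservesFiniteLimits (tilde.functor R)] in
include adj in
lemma isIso_counit : IsIso adj.counit := by
  have : (DCoh.Rpush (UU R fs).ι).Full :=
    (Groth.Agent.H33.LocCoh.dadj (UU R fs).ι).fullyFaithfulROfIsIsoCounit.full
  have : (DCoh.Rpush (UU R fs).ι).Faithful :=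
    (Groth.Agent.H33.LocCoh.dadj (UU R fs).ι).fullyFaithfulROfIsIsoCounit.faithful
  infer_instance

/-- the data of the cone of the unit -/
structure ConeData (E : DCoh.D (Spec (CommRingCat.of R))) where
  /-- the cone -/
  C : DCoh.D (Spec (CommRingCat.of R))
  /-- second map -/
  v : (DCoh.Rpush (UU R fs).ι).obj ((DCoh.restrictD (UU R fs).ι).obj E) ⟶ C
  /-- third map -/
  w : C ⟶ E⟦(1 : ℤ)⟧
  dist : Triangle.mk (adj.unit.app E) v w ∈ distTriang (DCoh.D (Spec (CommRingCat.of R)))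
  /-- the module complex -/
  N : DerivedCategory (ModuleCat.{u} R)
  /-- the cone is `N~` -/
  e : (DCoh.tildeD R).obj N ≅ C
  tors : ∀ f ∈ fs, Tors f N

theorem nonempty_coneData (E : DCoh.D (Spec (CommRingCat.of R))) (hE : DCoh.IsQCohD E) :
    Nonempty (ConeData R fs adj E) := by
  obtain ⟨C, v, w, hT⟩ := distinguished_cocone_triangle (adj.unit.app E)
  have hC : DCoh.IsQCohD C :=
    Groth.Agent.H5.Kosz.QCohTri.isQCohD_obj₃ _ hT hE (isQCohD_Rpush_restrict R fs E hE)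
  obtain ⟨N, ⟨e⟩⟩ := ((Groth.Agent.H5.DQ.Main.main R).2.2 C).1 hC
  -- `j^* C = 0`
  have hT' := (DCoh.restrictD (UU R fs).ι).map_distinguished _ hT
  haveI := isIso_counit R fs adj
  have h1 := adj.left_triangle_components E
  have h2 : IsIso ((DCoh.restrictD (UU R fs).ι).map (adj.unit.app E)) := by
    have : IsIso ((DCoh.restrictD (UU R fs).ι).map (adj.unit.app E) ≫
        adj.counit.app ((DCoh.restrictD (UU R fs).ι).obj E)) := by
      rw [h1]; exact IsIso.id _
    exact IsIso.of_isIso_comp_right _ (adj.counit.app ((DCoh.restrictD (UU R fs).ι).obj E))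
  have hz : IsZero ((DCoh.restrictD (UU R fs).ι).obj C) :=
    (Triangle.isZero₃_iff_isIso₁ _ hT').2 h2
  have hz' : IsZero ((DCoh.restrictD (UU R fs).ι).obj ((DCoh.tildeD R).obj N)) :=
    IsZero.of_iso hz ((DCoh.restrictD (UU R fs).ι).mapIso e)
  exact ⟨⟨C, v, w, hT, N, e, fun f hf => tors_of_isZero_restrictD R _ N hz' f
    (Ideal.subset_span hf)⟩⟩

variable {R fs adj} {E : DCoh.D (Spec (CommRingCat.of R))}

/-- **(v)** `Hom(K~[-j], C) = 0 ⇒ H^j(C) = 0` -/
theorem ConeData.isZero_HD (D : ConeData R fs adj E) (j : ℤ)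
    (h : ∀ φ : (Kt R fs)⟦-j⟧ ⟶ D.C, φ = 0) : IsZero (DCoh.HD D.C j) := by
  obtain ⟨hfull, hfaith, -⟩ := Groth.Agent.H5.DQ.Main.main R
  have h1 : ∀ ψ : Kt R fs ⟶ D.C⟦j⟧, ψ = 0 := orth_of_neg _ _ j h
  have h2 : ∀ ψ : Q.obj (Koszul.koszul R fs) ⟶ D.N⟦j⟧, ψ = 0 := by
    intro ψ
    apply (DCoh.tildeD R).map_injective
    rw [Functor.map_zero]
    have h3 := h1 ((DCoh.tildeD R).map ψ ≫ ((DCoh.tildeD R).commShiftIso j).hom.app D.N ≫
      D.e.hom⟦j⟧')
    have : IsIso (((DCoh.tildeD R).commShiftIso j).hom.app D.N ≫ D.e.hom⟦j⟧') := inferInstance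
    exact (cancel_mono (((DCoh.tildeD R).commShiftIso j).hom.app D.N ≫ D.e.hom⟦j⟧')).1
      (h3.trans zero_comp.symm)
  have h4 := isZero_homology_of_hom_koszul D.N j fs D.tors h2
  have h5 : IsZero (tilde ((homologyFunctor (ModuleCat.{u} R) j).obj D.N)) :=
    (tilde.functor R).map_isZero h4
  exact IsZero.of_iso h5 ((homologyFunctor _ j).mapIso D.e.symm ≪≫ HDTildeIso R D.N j)

/-- **(vi)** `Hom(K~[m-1], E) = 0 ⇒ Hom(K~[m], C) = 0` -/
theorem ConeData.hom_eq_zero (D : ConeData R fs adj E) (m m' : ℤ) (hm : m' + 1 = m)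
    (h : ∀ φ : (Kt R fs)⟦m'⟧ ⟶ E, φ = 0) (ψ : (Kt R fs)⟦m⟧ ⟶ D.C) : ψ = 0 := by
  have h1 : ψ ≫ D.w = 0 := orth_shift_right _ _ m' m 1 hm h _
  obtain ⟨ψ', hψ'⟩ := Triangle.coyoneda_exact₃ _ D.dist ψ h1
  have h2 : ψ' = 0 := hom_koszul_Rpush_eq_zero R fs adj _ m ψ'
  rw [hψ', h2]
  exact zero_comp

end Groth.Agent.H5.Kosz.Unit
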